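import Groth.Agent.RedSub.K687.GenExtAlg
import Groth.Agent.Sga3.H832.ValExt
import Groth.Agent.Sga3B.SplitBc264
import Groth.Agent.Par.K547.GenFib
import Groth.Agent.Sga3.H827.DSFlat

/-!
# Homomorphisms `D(M) ⟶ T` into a torus over a valuation ring extend from the generic fibre
-/

set_option autoImplicit false
universe u
open CategoryTheory CategoryTheory.Limits AlgebraicGeometry MonoidalCategory CartesianMonoidalCategory
  MonObj GrpObj

namespace Groth.Agent.K687.GenExt

open Groth.Agent.Sga3B Groth.Agent.Sga3B.DSPts Groth.Agent.Sga3B.InfConj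
  Groth.Agent.Sga3B.InfConjFam Groth.Agent.Sga3B.DSRigid Groth.Agent.K547.GenFib GenExtAlg

section untr

variable {S S' : Scheme.{u}} (x : S' ⟶ S) {N : Type} [AddCommGroup N]

lemma untr_tr {T : Over S'} (q : T ⟶ Red.DS S' N) : untr x (tr x q) = q := by
  apply (dsEquiv _ N).symm.injective
  change dsChar _ = dsChar _
  exact (dsChar_untr x (tr x q)).trans (dsChar_tr x q)

lemma untr_injective {T : Over S'} {q q' : (Over.map x).obj T ⟶ Red.DS S N}
    (h : untr x q = untr x q') : q = q' := by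
  rw [← tr_untr x q, h, tr_untr]

end untr

section square

variable {S U V W : Scheme.{u}} {x : U ⟶ S} {v : V ⟶ S} {κ : W ⟶ U} {ν : W ⟶ V}
  (w : κ ≫ x = ν ≫ v)

/-- change of the structure morphism -/
noncomputable def sq (X : Over W) :
    (Over.map v).obj ((Over.map ν).obj X) ⟶ (Over.map x).obj ((Over.map κ).obj X) :=
  Over.homMk (𝟙 X.left) (by
    simp only [Over.map_obj_hom, Category.assoc, w]
    exact Category.id_comp _)

lemma sq_nat {X X' : Over W} (h : X' ⟶ X) :
    (Over.map v).map ((Over.map ν).map h) ≫ sq w X = sq w X' ≫ (Over.map x).map ((Over.map κ).map h) := by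
  ext1
  exact (Category.comp_id _).trans (Category.id_comp _).symm

/-- the underlying equality of morphisms of schemes -/
lemma sq_left {X : Over W} {Y : Over U} {Y' : Over V} {T : Over S} (h : (Over.map κ).obj X ⟶ Y)
    (h' : (Over.map ν).obj X ⟶ Y') (a : (Over.map x).obj Y ⟶ T) (b : (Over.map v).obj Y' ⟶ T)
    (H : sq w X ≫ (Over.map x).map h ≫ a = (Over.map v).map h' ≫ b) :
    h.left ≫ a.left = h'.left ≫ b.left := by
  have h1 := congrArg (fun k => k.left) H
  exact (Category.id_comp _).symm.trans h1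

variable {T : Over S} [GrpObj T] {M N : Type} [AddCommGroup M] [AddCommGroup N]
  (c : Red.DS U M ⟶ Red.bc x T) (e : Red.bc v T ⟶ Red.DS V N)

/-- `c` on points over `W`, in the coordinates of the splitting `e` -/
noncomputable def F {X : Over W} (q : X ⟶ Red.DS W M) : X ⟶ Red.DS W N :=
  untr ν (bcEquiv v _ T (sq w X ≫ (bcEquiv x _ T).symm (tr κ q ≫ c)) ≫ e)

lemma F_comp {X X' : Over W} (h : X' ⟶ X) (q : X ⟶ Red.DS W M) :
    F w c e (h ≫ q) = h ≫ F w c e q := by
  unfold F
  rw [← untr_comp, ← Category.assoc ((Over.map ν).map h), bcEquiv_naturality,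
    ← Category.assoc ((Over.map v).map ((Over.map ν).map h)), sq_nat, Category.assoc,
    bcEquiv_symm_naturality, ← Category.assoc ((Over.map κ).map h), ← tr_comp]

lemma F_mul [IsMonHom c] [IsMonHom e] {X : Over W} (q q' : X ⟶ Red.DS W M) :
    F w c e (q * q') = F w c e q * F w c e q' := by
  unfold F
  rw [tr_mul, MonObj.mul_comp, map_mul, MonObj.comp_mul, map_mul]
  exact (congrArg (untr ν) (MonObj.mul_comp _ _ e)).trans (untr_mul ν _ _)

end square

section key

variable {S U V : Scheme.{u}} {L : Type u} [CommRing L] [IsLocalRing L] {x : U ⟶ S} {v : V ⟶ S}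
  {κ : Spec (CommRingCat.of L) ⟶ U} {ν : Spec (CommRingCat.of L) ⟶ V} (w : κ ≫ x = ν ≫ v)
  {T : Over S} [GrpObj T] {M N : Type} [AddCommGroup M] [AddCommGroup N]

/-- A homomorphism `D(M) ⟶ T` over `U` and a splitting of `T` over `V`: there is a homomorphism over
`V` which agrees with the given one over `Spec L`. -/
theorem exists_agree (c : Red.DS U M ⟶ Red.bc x T) [IsMonHom c]
    (e : Red.bc v T ⟶ Red.DS V N) [IsMonHom e] (e' : Red.DS V N ⟶ Red.bc v T) (he : e ≫ e' = 𝟙 _) :
    ∃ b : Red.DS V M ⟶ Red.bc v T, ∀ (X : Over (Spec (CommRingCat.of L)))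
      (q : X ⟶ Red.DS (Spec (CommRingCat.of L)) M),
      sq w X ≫ (bcEquiv x _ T).symm (tr κ q ≫ c) = (bcEquiv v _ T).symm (tr ν q ≫ b) := by
  have hf : ∀ {X : Over (Spec (CommRingCat.of L))} (q : X ⟶ Red.DS (Spec (CommRingCat.of L)) M),
      q ≫ F w c e (𝟙 _) = F w c e q := fun q => by rw [← F_comp, Category.comp_id]
  have hmon : IsMonHom (F w c e (𝟙 _)) := isMonHom_of_mul _ fun X q q' => by
    rw [hf, hf, hf, F_mul]
  obtain ⟨φ, hφ⟩ := exists_eq_DSmap (F w c e (𝟙 _))
  refine ⟨Red.DSmap V φ ≫ e', fun X q => ?_⟩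
  apply (bcEquiv v _ T).injective
  rw [MulEquiv.apply_symm_apply]
  have h1 : bcEquiv v _ T (sq w X ≫ (bcEquiv x _ T).symm (tr κ q ≫ c)) ≫ e =
      tr ν q ≫ Red.DSmap V φ := by
    apply untr_injective ν
    rw [← tr_DSmap, untr_tr]
    exact (hf q).symm.trans (congrArg (q ≫ ·) hφ)
  calc _ = (bcEquiv v _ T (sq w X ≫ (bcEquiv x _ T).symm (tr κ q ≫ c)) ≫ e) ≫ e' := by
        rw [Category.assoc, he, Category.comp_id]
    _ = _ := by rw [h1, Category.assoc]

end key

section univ

/-- the universal points over two rings -/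
lemma tr_univPt {A B : Type u} [CommRing A] [CommRing B] (α : A →+* B) {M : Type} [AddCommGroup M] :
    ∃ h : (Over.map (Spec.map (CommRingCat.ofHom α))).obj (pt B (MonoidAlgebra B (Multiplicative M))) ⟶
      pt A (MonoidAlgebra A (Multiplicative M)),
      h.left = Spec.map (CommRingCat.ofHom (MonoidAlgebra.mapRingHom (Multiplicative M) α)) ∧
      tr (Spec.map (CommRingCat.ofHom α)) (univPt B M) = h ≫ univPt A M := by
  let h : (Over.map (Spec.map (CommRingCat.ofHom α))).obj (pt B (MonoidAlgebra B (Multiplicative M))) ⟶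
      pt A (MonoidAlgebra A (Multiplicative M)) :=
    Over.homMk (Spec.map (CommRingCat.ofHom (MonoidAlgebra.mapRingHom (Multiplicative M) α))) (by
      simp only [Over.mk_hom, Over.map_obj_hom, ← Spec.map_comp, ← CommRingCat.ofHom_comp]
      congr 2
      ext a
      simp)
  refine ⟨h, rfl, ?_⟩
  apply (dsEquiv _ M).symm.injective
  change dsChar _ = dsChar _
  refine (dsChar_tr _ _).trans ?_
  rw [dsChar_comp, univPt, univPt, charPt, charPt, dsChar_dsEquiv, dsChar_dsEquiv]
  refine MonoidHom.ext fun m => ?_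
  have h1 := Scheme.ΓSpecIso_inv_naturality
    (CommRingCat.ofHom (MonoidAlgebra.mapRingHom (Multiplicative M) α))
  have h2 : MonoidAlgebra.mapRingHom (Multiplicative M) α (MonoidAlgebra.of A (Multiplicative M) m) =
      MonoidAlgebra.of B (Multiplicative M) m := by simp
  change gPt B _ (MonoidAlgebra.of B (Multiplicative M) m) =
    h.left.appTop.hom (gPt A _ (MonoidAlgebra.of A (Multiplicative M) m))
  rw [← h2]
  exact congr($(h1).hom (MonoidAlgebra.of A (Multiplicative M) m))

end univ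

section bcds

/-- the comparison of the two base changes of `D(M)`, on points -/
lemma tr_dsBcIso {S S' : Scheme.{u}} (f : S' ⟶ S) (M : Type) [AddCommGroup M] (X : Over S')
    (x : X ⟶ Red.bc f (Red.DS S M)) :
    tr f (x ≫ (TorusAlgClosed.dsBcIso f M).hom.hom.hom) = (bcEquiv f X (Red.DS S M)).symm x := by
  apply (dsEquiv _ M).symm.injective
  have h1 := SplitBc264.dsChar_dsBcIso f x
  have h2 := dsChar_tr f (x ≫ (TorusAlgClosed.dsBcIso f M).hom.hom.hom)
  exact h2.trans h1

lemma exists_bcIso {S S' : Scheme.{u}} (f : S' ⟶ S) (M : Type) [AddCommGroup M] :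
    ∃ (i : Red.bc f (Red.DS S M) ⟶ Red.DS S' M) (i' : Red.DS S' M ⟶ Red.bc f (Red.DS S M)),
      IsMonHom i' ∧ i ≫ i' = 𝟙 _ ∧ ∀ (X : Over S') (x : X ⟶ Red.bc f (Red.DS S M)),
        tr f (x ≫ i) = (bcEquiv f X (Red.DS S M)).symm x :=
  ⟨(TorusAlgClosed.dsBcIso f M).hom.hom.hom, (TorusAlgClosed.dsBcIso f M).inv.hom.hom,
    (TorusAlgClosed.dsBcIso f M).inv.hom.isMonHom_hom,
    congrArg (fun k => k.hom.hom) (TorusAlgClosed.dsBcIso f M).hom_inv_id, tr_dsBcIso f M⟩

end bcds

section gen

variable {O : Type u} [CommRing O] [IsDomain O]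

/-- the generic fibre, as an object over `Spec O` -/
noncomputable def ε (X : Over (Spec (CommRingCat.of O))) :
    (Over.map (gen O)).obj (Red.bc (gen O) X) ⟶ X :=
  Over.homMk (pullback.fst X.hom (gen O)) pullback.condition

lemma ext_gen {X T : Over (Spec (CommRingCat.of O))} [Flat X.hom] [IsSeparated T.hom] {a b : X ⟶ T}
    (h : ε X ≫ a = ε X ≫ b) : a = b := by
  ext1
  refine ext_of_ker_eq_bot T.hom (by rw [Over.w, Over.w]) (pullback.fst X.hom (gen O)) ?_
    (congrArg (fun k => k.left) h)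
  have : IsSchemeTheoreticallyDominant (pullback.fst X.hom (gen O)) := inferInstance
  exact this.ker_eq_bot

lemma symm_map {X T : Over (Spec (CommRingCat.of O))} [GrpObj T] (J : X ⟶ T) :
    (bcEquiv (gen O) _ T).symm ((Over.pullback (gen O)).map J) = ε X ≫ J := by
  ext1
  rw [bcEquiv_symm_left]
  exact pullback.lift_fst _ _ _

/-- A homomorphism of the generic fibres, on points -/
theorem exists_lift_pt [ValuationRing O] {T : Over (Spec (CommRingCat.of O))} [GrpObj T]
    (hT : Red.IsTorus T) {M : Type} [AddCommGroup M]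
    (c : Red.DS (Spec (CommRingCat.of (FractionRing O))) M ⟶ Red.bc (gen O) T) [IsMonHom c] :
    ∃ j : Spec (CommRingCat.of (MonoidAlgebra O (Multiplicative M))) ⟶ T.left,
      Spec.map (CommRingCat.ofHom (MonoidAlgebra.mapRingHom (Multiplicative M)
        (algebraMap O (FractionRing O)))) ≫ j =
      ((bcEquiv (gen O) _ T).symm (univPt (FractionRing O) M ≫ c)).left := by
  have hTa : IsAffineHom T.hom := TorusAlgClosed.isAffineHom_of_isTorus hT
  have hTl : IsAffine T.left := isAffine_of_isAffineHom T.hom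
  obtain ⟨V, L, _, _, _, _, _, _, _, φ, y₁, hinj, hloc, hy⟩ :=
    Groth.Agent.Sga3.H832.ValExt.exists_valuationRing (𝟙 (Spec (CommRingCat.of O))) (R := O) (𝟙 _)
      ⟨IsLocalRing.closedPoint O, rfl⟩
  have := Groth.Agent.Sga3.H832.HensVal.henselianLocalRing V L
  have := Groth.Agent.Sga3.H832.HensVal.isAlgClosed_residueField V L
  have hVL : Function.Injective (algebraMap V L) := IsFractionRing.injective V L
  obtain ⟨r, ⟨e⟩⟩ := Groth.Agent.Sga3.H832.ValExt.exists_isSplitTorusWith
    (T := Red.bc (Spec.map (CommRingCat.ofHom φ)) T) (TorusBc.isTorus_bc _ hT)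
  let a : Red.bc (Spec.map (CommRingCat.ofHom φ)) T ⟶
    Red.DS (Spec (CommRingCat.of V)) (Fin r → ℤ) := e.hom.hom.hom
  let a' : Red.DS (Spec (CommRingCat.of V)) (Fin r → ℤ) ⟶
    Red.bc (Spec.map (CommRingCat.ofHom φ)) T := e.inv.hom.hom
  have ha : IsMonHom a := e.hom.hom.isMonHom_hom
  have haa : a ≫ a' = 𝟙 _ := congrArg (fun k => k.hom.hom) e.hom_inv_id
  obtain ⟨ψ, hψ⟩ : ∃ ψ : FractionRing O →+* L,
      ∀ o, ψ (algebraMap O (FractionRing O) o) = algebraMap V L (φ o) :=
    ⟨IsFractionRing.lift (K := FractionRing O) (g := (algebraMap V L).comp φ) (hVL.comp hinj),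
      fun o => IsFractionRing.lift_algebraMap _ o⟩
  have w : Spec.map (CommRingCat.ofHom ψ) ≫ gen O =
      Spec.map (CommRingCat.ofHom (algebraMap V L)) ≫ Spec.map (CommRingCat.ofHom φ) := by
    rw [← Spec.map_comp, ← Spec.map_comp, ← CommRingCat.ofHom_comp, ← CommRingCat.ofHom_comp]
    congr 2
    ext o
    exact hψ o
  obtain ⟨b, hb⟩ := exists_agree w c a a' haa
  obtain ⟨hK, hK1, hK2⟩ := tr_univPt ψ (M := M)
  obtain ⟨hV, hV1, hV2⟩ := tr_univPt (algebraMap V L) (M := M)
  have h1 := hb _ (univPt L M)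
  rw [hK2, hV2, Category.assoc, Category.assoc,
    ← bcEquiv_symm_naturality (gen O) T hK (univPt (FractionRing O) M ≫ c),
    ← bcEquiv_symm_naturality (Spec.map (CommRingCat.ofHom φ)) T hV (univPt V M ≫ b)] at h1
  have h2 := sq_left w hK hV _ _ h1
  rw [hK1, hV1] at h2
  exact exists_lift (MonoidAlgebra.mapRingHom (Multiplicative M) (algebraMap O (FractionRing O)))
    (MonoidAlgebra.mapRingHom (Multiplicative M) ψ)
    (MonoidAlgebra.mapRingHom (Multiplicative M) (algebraMap V L)) (by
      intro a a' haa'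
      ext m
      have := congrArg (fun z => z.coeff m) haa'
      simp only [MonoidAlgebra.coeff_mapRingHom] at this
      exact IsFractionRing.injective O (FractionRing O) this)
    (fun a a' haa' => exists_int_monoidAlgebra hVL hψ a a' haa') _ _ h2

lemma spec_hom_ext {R A B : Type u} [CommRing R] [CommRing A] [CommRing B] (i : A →+* B)
    (hi : Function.Injective i) (f g : Spec (CommRingCat.of A) ⟶ Spec (CommRingCat.of R))
    (h : Spec.map (CommRingCat.ofHom i) ≫ f = Spec.map (CommRingCat.ofHom i) ≫ g) : f = g := by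
  obtain ⟨f', rfl⟩ := Spec.map_surjective f
  obtain ⟨g', rfl⟩ := Spec.map_surjective g
  rw [← Spec.map_comp, ← Spec.map_comp] at h
  have h1 := Spec.map_injective h
  congr 1
  ext t
  exact hi (congr($(h1).hom t))

/-- **Homomorphisms from a diagonalisable group to a torus over a valuation ring extend from the
generic fibre** (form on points). -/
theorem exists_hom_ext_pt [ValuationRing O] {T : Over (Spec (CommRingCat.of O))} [GrpObj T]
    (hT : Red.IsTorus T) {M : Type} [AddCommGroup M]
    (c : Red.DS (Spec (CommRingCat.of (FractionRing O))) M ⟶ Red.bc (gen O) T) [IsMonHom c] :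
    ∃ J : Red.DS (Spec (CommRingCat.of O)) M ⟶ T, IsMonHom J ∧
      ∀ (X : Over (Spec (CommRingCat.of (FractionRing O))))
        (q : X ⟶ Red.DS (Spec (CommRingCat.of (FractionRing O))) M),
        tr (gen O) q ≫ J = (bcEquiv (gen O) X T).symm (q ≫ c) := by
  obtain ⟨j, hj⟩ := exists_lift_pt hT c
  obtain ⟨w, hw1, hw2⟩ := tr_univPt (algebraMap O (FractionRing O)) (M := M)
  have hinj : Function.Injective (MonoidAlgebra.mapRingHom (Multiplicative M)
      (algebraMap O (FractionRing O))) := by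
    intro a a' haa'
    ext m
    have := congrArg (fun z => z.coeff m) haa'
    simp only [MonoidAlgebra.coeff_mapRingHom] at this
    exact IsFractionRing.injective O (FractionRing O) this
  let J' : pt O (MonoidAlgebra O (Multiplicative M)) ⟶ T := Over.homMk j (by
    refine spec_hom_ext _ hinj _ _ ?_
    rw [← Category.assoc, hj, Over.w, ← hw1]
    exact (Over.w w).symm)
  have hJ' : w ≫ J' = (bcEquiv (gen O) _ T).symm (univPt (FractionRing O) M ≫ c) := by
    ext1
    rw [Over.comp_left, hw1]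
    exact hj
  obtain ⟨h, hh⟩ := exists_eq_comp_charPt (𝟙 (Red.DS (Spec (CommRingCat.of O)) M))
  have hu : univPt O M ≫ h = 𝟙 _ := by
    rw [← cancel_mono (univPt O M), Category.assoc, ← hh, Category.comp_id, Category.id_comp]
  have hpt : ∀ (X : Over (Spec (CommRingCat.of (FractionRing O))))
      (q : X ⟶ Red.DS (Spec (CommRingCat.of (FractionRing O))) M),
      tr (gen O) q ≫ h ≫ J' = (bcEquiv (gen O) X T).symm (q ≫ c) := by
    intro X q
    obtain ⟨k, rfl⟩ := exists_eq_comp_charPt q
    rw [tr_comp, hw2, Category.assoc, Category.assoc, ← Category.assoc (univPt O M), hu,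
      Category.id_comp, hJ', bcEquiv_symm_naturality, Category.assoc]
  refine ⟨h ≫ J', ?_, hpt⟩
  have := Groth.Agent.Sga3.H827.DSFlat.flat_DS (S := Spec (CommRingCat.of O)) M
  have hTa : IsAffineHom T.hom := TorusAlgClosed.isAffineHom_of_isTorus hT
  have hfl : Flat (Red.DS (Spec (CommRingCat.of O)) M ⊗ Red.DS (Spec (CommRingCat.of O)) M).hom := by
    have h1 := Sga3C.SchemImage.flat_fst (Red.DS (Spec (CommRingCat.of O)) M)
      (Red.DS (Spec (CommRingCat.of O)) M)
    rw [← Over.w (fst (Red.DS (Spec (CommRingCat.of O)) M) (Red.DS (Spec (CommRingCat.of O)) M))]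
    infer_instance
  have key : (fst (Red.DS (Spec (CommRingCat.of O)) M) (Red.DS (Spec (CommRingCat.of O)) M) *
      snd (Red.DS (Spec (CommRingCat.of O)) M) (Red.DS (Spec (CommRingCat.of O)) M)) ≫ h ≫ J' =
      (fst _ _ ≫ h ≫ J') * (snd _ _ ≫ h ≫ J') := by
    refine ext_gen ?_
    have h3 : ∀ (a b : (Over.map (gen O)).obj (Red.bc (gen O)
        (Red.DS (Spec (CommRingCat.of O)) M ⊗ Red.DS (Spec (CommRingCat.of O)) M)) ⟶
          Red.DS (Spec (CommRingCat.of O)) M), (a * b) ≫ h ≫ J' = (a ≫ h ≫ J') * (b ≫ h ≫ J') := by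
      intro a b
      rw [← tr_untr (gen O) a, ← tr_untr (gen O) b, ← tr_mul, hpt, hpt, hpt, MonObj.mul_comp, map_mul]
    rw [← Category.assoc, MonObj.comp_mul, h3, MonObj.comp_mul, Category.assoc, Category.assoc]
  refine isMonHom_of_mul _ fun X q q' => ?_
  have h2 : lift q q' ≫ _ = lift q q' ≫ _ := congrArg (lift q q' ≫ ·) key
  rw [← Category.assoc, MonObj.comp_mul, MonObj.comp_mul, lift_fst, lift_snd, lift_fst_assoc,
    lift_snd_assoc] at h2
  exact h2

/-- **Homomorphisms from a diagonalisable group to a torus over a valuation ring extend from the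
generic fibre.** -/
theorem exists_hom_ext [ValuationRing O] {T : Over (Spec (CommRingCat.of O))} [GrpObj T]
    (hT : Red.IsTorus T) {M : Type} [AddCommGroup M]
    (c : Red.bc (gen O) (Red.DS (Spec (CommRingCat.of O)) M) ⟶ Red.bc (gen O) T) [IsMonHom c] :
    ∃ J : Red.DS (Spec (CommRingCat.of O)) M ⟶ T, IsMonHom J ∧ (Over.pullback (gen O)).map J = c := by
  obtain ⟨i, i', hi', hii', hi⟩ := exists_bcIso (gen O) M
  obtain ⟨J, hJ, hJ'⟩ := exists_hom_ext_pt hT (i' ≫ c)
  refine ⟨J, hJ, ?_⟩
  have h1 := hJ' _ i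
  rw [← Category.assoc, hii', Category.id_comp] at h1
  have h2 := hi _ (𝟙 _)
  rw [Category.id_comp] at h2
  apply (bcEquiv (gen O) _ T).symm.injective
  rw [← h1, h2]
  ext1
  rw [bcEquiv_symm_left, Over.comp_left, bcEquiv_symm_left]
  refine (pullback.lift_fst _ _ _).trans ?_
  exact congrArg (· ≫ J.left) (Category.id_comp _).symm

end gen

end Groth.Agent.K687.GenExt
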