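import Groth.Agent.Sga3B.DSRigid
import Mathlib.RingTheory.Valuation.ValuationRing

/-!
# Extending morphisms from the generic fibre of `Spec O[Γ]`, `O` a valuation ring
-/

set_option autoImplicit false
universe u
open CategoryTheory CategoryTheory.Limits AlgebraicGeometry MonoidalCategory CartesianMonoidalCategory
  MonObj GrpObj

namespace Groth.Agent.K687.GenExtAlg

open Groth.Agent.Sga3B Groth.Agent.Sga3B.DSPts Groth.Agent.Sga3B.InfConj

section alg

variable {O K V L : Type u} [CommRing O] [IsDomain O] [ValuationRing O] [Field K] [Algebra O K]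
  [IsFractionRing O K] [CommRing V] [CommRing L] [Algebra V L] {φ : O →+* V} {ψ : K →+* L}

lemma exists_int [IsLocalHom φ] (hVL : Function.Injective (algebraMap V L))
    (hψ : ∀ o, ψ (algebraMap O K o) = algebraMap V L (φ o))
    (x : K) (y : V) (h : ψ x = algebraMap V L y) : ∃ o : O, algebraMap O K o = x := by
  rcases ValuationRing.isInteger_or_isInteger O x with hx | hx
  · exact hx
  · obtain ⟨o, ho⟩ := hx
    by_cases h0 : x = 0
    · exact ⟨0, by rw [h0, map_zero]⟩
    have h1 : φ o * y = 1 := by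
      apply hVL
      rw [map_mul, ← hψ, ← h, ← map_mul, ho, inv_mul_cancel₀ h0, map_one, map_one]
    have h2 : IsUnit o := isUnit_of_map_unit φ o (IsUnit.of_mul_eq_one _ h1)
    obtain ⟨u, rfl⟩ := h2
    refine ⟨↑u⁻¹, ?_⟩
    have h3 : algebraMap O K ↑u⁻¹ * algebraMap O K u = 1 := by
      rw [← map_mul, Units.inv_mul, map_one]
    have h4 : x * algebraMap O K u = 1 := by rw [ho, mul_inv_cancel₀ h0]
    have h5 : algebraMap O K (u : O) ≠ 0 := fun h => by rw [h, mul_zero] at h4; exact zero_ne_one h4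
    exact mul_right_cancel₀ h5 (h3.trans h4.symm)

open MonoidAlgebra in
lemma exists_int_monoidAlgebra {Γ : Type} [CommGroup Γ] [IsLocalHom φ]
    (hVL : Function.Injective (algebraMap V L))
    (hψ : ∀ o, ψ (algebraMap O K o) = algebraMap V L (φ o))
    (x : MonoidAlgebra K Γ) (y : MonoidAlgebra V Γ)
    (h : mapRingHom Γ ψ x = mapRingHom Γ (algebraMap V L) y) :
    ∃ z : MonoidAlgebra O Γ, mapRingHom Γ (algebraMap O K) z = x := by
  classical
  have h1 : ∀ m, ∃ o : O, algebraMap O K o = x.coeff m := by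
    intro m
    refine exists_int hVL hψ _ (y.coeff m) ?_
    rw [← coeff_mapRingHom, h, coeff_mapRingHom]
  choose o ho using h1
  refine ⟨∑ m ∈ x.coeff.support, MonoidAlgebra.single m (o m), ?_⟩
  rw [map_sum]
  simp only [mapRingHom_single, ho]
  apply MonoidAlgebra.ext
  rw [MonoidAlgebra.coeff_sum]
  simp only [MonoidAlgebra.coeff_single]
  exact Finsupp.sum_single x.coeff

end alg

section lift

/-- Morphisms into an affine scheme factor through `Spec R₁` as soon as the functions do. -/
lemma exists_lift {R₁ R₂ R₃ R₄ : Type u} [CommRing R₁] [CommRing R₂] [CommRing R₃] [CommRing R₄]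
    (a : R₁ →+* R₂) (b : R₂ →+* R₄) (c : R₃ →+* R₄) (ha : Function.Injective a)
    (h : ∀ x y, b x = c y → ∃ z, a z = x) {Y : Scheme.{u}} [IsAffine Y]
    (f : Spec (CommRingCat.of R₂) ⟶ Y) (g : Spec (CommRingCat.of R₃) ⟶ Y)
    (hfg : Spec.map (CommRingCat.ofHom b) ≫ f = Spec.map (CommRingCat.ofHom c) ≫ g) :
    ∃ j : Spec (CommRingCat.of R₁) ⟶ Y, Spec.map (CommRingCat.ofHom a) ≫ j = f := by
  obtain ⟨f', hf'⟩ := Spec.map_surjective (f ≫ Y.isoSpec.hom)
  obtain ⟨g', hg'⟩ := Spec.map_surjective (g ≫ Y.isoSpec.hom)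
  have h1 : f' ≫ CommRingCat.ofHom b = g' ≫ CommRingCat.ofHom c := by
    apply Spec.map_injective
    rw [Spec.map_comp, Spec.map_comp, hf', hg', reassoc_of% hfg]
  have h2 : ∀ t : Γ(Y, ⊤), ∃ z, a z = f'.hom t := fun t =>
    h _ (g'.hom t) (congr($(h1).hom t))
  choose z hz using h2
  let j' : Γ(Y, ⊤) →+* R₁ :=
    { toFun := z
      map_one' := ha (by rw [hz, map_one, map_one])
      map_mul' := fun x y => ha (by rw [hz, map_mul, map_mul, hz, hz])
      map_zero' := ha (by rw [hz, map_zero, map_zero])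
      map_add' := fun x y => ha (by rw [hz, map_add, map_add, hz, hz]) }
  refine ⟨Spec.map (CommRingCat.ofHom j') ≫ Y.isoSpec.inv, ?_⟩
  have h3 : CommRingCat.ofHom j' ≫ CommRingCat.ofHom a = f' := by
    ext t
    exact hz t
  rw [← Category.assoc, ← Spec.map_comp, h3, hf', Category.assoc, Iso.hom_inv_id, Category.comp_id]

lemma hom_ext_Spec {R : Type u} [CommRing R] {X : Scheme.{u}} (f g : X ⟶ Spec (CommRingCat.of R))
    (h : (Scheme.ΓSpecIso (CommRingCat.of R)).inv ≫ f.appTop = (Scheme.ΓSpecIso (CommRingCat.of R)).inv ≫ g.appTop) :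
    f = g := by
  rw [← toSpecΓ_SpecMap_eq f, ← toSpecΓ_SpecMap_eq g, h]

/-- The universal point of `D(M)` is a monomorphism. -/
instance mono_univPt (C : Type u) [CommRing C] (M : Type) [AddCommGroup M] : Mono (univPt C M) := by
  constructor
  intro X a b hab
  ext1
  apply hom_ext_Spec
  have h1 : ∀ (a : X ⟶ pt C (MonoidAlgebra C (Multiplicative M))) (m : Multiplicative M),
      dsChar (a ≫ univPt C M) m = a.left.appTop.hom (gPt C _ (MonoidAlgebra.of C (Multiplicative M) m)) := by
    intro a m
    rw [univPt, charPt, dsChar_comp, dsChar_dsEquiv]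
    rfl
  apply CommRingCat.hom_ext
  refine RingHom.ext fun x => ?_
  change a.left.appTop.hom (gPt C _ x) = b.left.appTop.hom (gPt C _ x)
  induction x using MonoidAlgebra.induction_linear with
  | zero => simp
  | add f g hf hg => rw [map_add, map_add, map_add, hf, hg]
  | single δ r =>
    have h2 : (MonoidAlgebra.single δ r : MonoidAlgebra C (Multiplicative M)) =
      algebraMap C _ r * MonoidAlgebra.of C (Multiplicative M) δ := by
      simp [MonoidAlgebra.single_mul_single]
    rw [h2, map_mul, map_mul, map_mul, ← h1, ← h1, hab]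
    congr 1
    have h3 : ∀ (a : X ⟶ pt C (MonoidAlgebra C (Multiplicative M))),
        a.left.appTop.hom (gPt C _ (algebraMap C _ r)) =
          X.hom.appTop.hom ((Scheme.ΓSpecIso (CommRingCat.of C)).inv.hom r) := by
      intro a
      have h4 : (Scheme.ΓSpecIso (CommRingCat.of C)).inv ≫ X.hom.appTop =
          CommRingCat.ofHom (algebraMap C (MonoidAlgebra C (Multiplicative M))) ≫
            (Scheme.ΓSpecIso _).inv ≫ a.left.appTop := by
        rw [← Over.w a, Scheme.Hom.comp_appTop, ← Category.assoc, ← Category.assoc]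
        congr 1
        exact (Scheme.ΓSpecIso_inv_naturality _).symm
      exact congr($(h4).hom r).symm
    rw [h3, h3]

end lift

end Groth.Agent.K687.GenExtAlg
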