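import Groth.Agent.RedSub.K687.GenExt
import Groth.Agent.Par.K547.MaxBc
import Groth.Agent.Sga3B.MaxTorBc636
import Groth.Agent.S19152

/-!
# The generic fibre of a maximal split torus over a valuation ring is a maximal split torus
-/

set_option autoImplicit false
set_option linter.unusedSectionVars false

universe u

open CategoryTheory CategoryTheory.Limits AlgebraicGeometry MonoidalCategory CartesianMonoidalCategory
  MonObj GrpObj

namespace Groth.Agent.K687.GenSpl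

open Groth.Agent.Sga3B Groth.Agent.Sga3B.Parab Groth.Agent.Sga3B.Par Groth.Agent.Sga3B.DSPts
open Groth.Agent.Sga3B.Parab.OrbM156 Groth.Agent.K547.HensLift Groth.Agent.K547.SplTor
  Groth.Agent.K547.LiftSpl Groth.Agent.K547.MaxBc Groth.Agent.K547.GenFib Groth.Agent.K547

section

variable {O : Type u} [CommRing O] [IsDomain O] [ValuationRing O]
  {G T Z : Over (Spec (CommRingCat.of O))} [GrpObj G] [GrpObj T] [GrpObj Z]

/-- **Cocharacters of the generic fibre of the centralizer of a maximal split torus**: the parabolic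
subgroup they define is everything. -/
theorem ptP_all (hG : Red.IsReductive G) (σ : T ⟶ G) [IsMonHom σ] [Mono σ] (hT : MaxSpl σ)
    (z : Z ⟶ G) (hZ : Red.IsCentralizerOf σ z) (hZr : Red.IsReductive Z)
    (κ : Red.Gm (Spec (CommRingCat.of (FractionRing O))) ⟶ Red.bc (gen O) Z) [IsMonHom κ]
    {X : Over (Spec (CommRingCat.of (FractionRing O)))} (g : X ⟶ Red.bc (gen O) Z) : PtP κ g := by
  have hZKr : Red.IsReductive (Red.bc (gen O) Z) := RedBcAny636.isReductive_bc _ hZr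
  have hzm : IsMonHom z := hZ.1
  have hzmono : Mono z := hZ.2.1
  obtain ⟨P₁, _, p₁, hp₁, hp₁par⟩ := DynTools.exists_isDynP κ hZKr
  obtain ⟨⟨P, _, p, hp, e, he⟩, -⟩ := Groth.Agent.S19152.result O Z hZr P₁ p₁ hp₁par
  obtain ⟨Tm, _, t, ht, ht'⟩ := Groth.Agent.S2995.result (A := O) finite_maximal Z P hZr p hp
  obtain ⟨L, _, l, tl, hl, -, -, -⟩ := Groth.Agent.S3974.result hZr p hp t ht'
  obtain ⟨m₁, hm₁, hmP, hmZ⟩ := RedSub.H663.DynPair.exists_cochar_levi hZr p hp l hl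
  obtain ⟨E, -⟩ := BorSpan613.exists_iso_DS (Spec (CommRingCat.of O))
    (AddEquiv.piUnique (fun _ : Fin 1 => ℤ))
  obtain ⟨q, hq⟩ := exists_factor hG σ hT (m₁ ≫ z) (BorSpan613.isTorus_Gm _) ⟨1, ⟨E⟩⟩ (by
    intro X a b
    exact ((hZ.2.2 _ (m₁ ≫ z)).1 ⟨m₁, rfl⟩ X b a).symm)
  have hcen : PtZ m₁ (𝟙 Z) := by
    rw [DynExist998.ptZ_iff_centralizes]
    intro X' y h
    rw [← cancel_mono z, MonObj.mul_comp, MonObj.mul_comp, Category.comp_id, Category.assoc h m₁ z,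
      ← hq, ← Category.assoc h q σ]
    exact ((hZ.2.2 _ z).1 ⟨𝟙 _, Category.id_comp _⟩ X' y (h ≫ q))
  obtain ⟨s, hs⟩ := (hmP.iff_ptP _ (𝟙 Z)).2 hcen.ptP
  refine (hp₁.iff_ptP _ g).1 ⟨g ≫ (Over.pullback (gen O)).map s ≫ e.hom, ?_⟩
  rw [Category.assoc, Category.assoc, he, ← Functor.map_comp, hs]
  exact (congrArg (g ≫ ·) (CategoryTheory.Functor.map_id _ Z)).trans (Category.comp_id g)

/-- **The generic fibre of a maximal split torus over a valuation ring is a maximal split torus.** -/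
theorem maxSpl_genFibre (hG : Red.IsReductive G) (σ : T ⟶ G) [IsMonHom σ] [Mono σ]
    (hT : MaxSpl σ) : MaxSpl ((Over.pullback (gen O)).map σ) := by
  have hGa : IsAffineHom G.hom := hG.1
  have hGs : Smooth G.hom := hG.2.1
  obtain ⟨n, hn⟩ := hT.2.1
  refine ⟨TorusBc.isTorus_bc (gen O) hT.1, ⟨n, TorusAlgClosed.isSplitTorusWith_bc (gen O) hn⟩, ?_⟩
  intro T₀ _ σ₀ _ _ g hT₀ hs₀ hg
  obtain ⟨e⟩ := hn
  obtain ⟨x, hx⟩ := exists_generic σ hT.1 e
  obtain ⟨Z, _, z, hz, hzc⟩ := DynExist998.exists_isDynZ (lamN (e.inv.hom.hom ≫ σ) x)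
  have hzm : IsMonHom z := hz.isMonHom
  have hzmono : Mono z := hz.mono
  have hZr : Red.IsReductive Z := isReductive_of_isDynZ _ K3b143.dynK3 hG z hz
  have hZKr : Red.IsReductive (Red.bc (gen O) Z) := RedBcAny636.isReductive_bc _ hZr
  have hZKa : IsAffineHom (Red.bc (gen O) Z).hom := hZKr.1
  have hZKs : Smooth (Red.bc (gen O) Z).hom := hZKr.2.1
  have hZ : Red.IsCentralizerOf σ z := ⟨hzm, hzmono, fun X g => (hz.iff_ptZ X g).trans (hx X g).symm⟩
  have hlam : lamN (e.inv.hom.hom ≫ σ) x = (lamN e.inv.hom.hom x) ≫ σ := by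
    rw [lamN, lamN, Category.assoc]
  obtain ⟨j₀, hj₀⟩ := ((hz.bc (gen O)).iff_ptZ T₀ σ₀).2 (by
    rw [hlam]
    exact ptZ_of_factor (gen O) σ hT₀ σ₀ g hg _)
  have hzbm : IsMonHom ((Over.pullback (gen O)).map z) := inferInstance
  have hj₀m : IsMonHom j₀ := OppS172.isMonHom_of_comp j₀ ((Over.pullback (gen O)).map z)
    (by rw [hj₀]; infer_instance)
  have hj₀mono : Mono j₀ := by
    have : Mono (j₀ ≫ (Over.pullback (gen O)).map z) := by rw [hj₀]; infer_instance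
    exact mono_of_mono j₀ ((Over.pullback (gen O)).map z)
  obtain ⟨m, hm⟩ := hs₀
  obtain ⟨e₀⟩ := id hm
  obtain ⟨x₀, hx₀⟩ := exists_generic j₀ hT₀ e₀
  -- `T₀` is central in the generic fibre of `Z`
  have hcen : ∀ (X : Over (Spec (CommRingCat.of (FractionRing O)))) (k : X ⟶ Red.bc (gen O) Z)
      (X' : Over _) (y : X' ⟶ X) (h : X' ⟶ T₀), (y ≫ k) * (h ≫ j₀) = (h ≫ j₀) * (y ≫ k) := by
    intro X k
    rw [hx₀, OppPts172.ptZ_iff_and]
    exact ⟨ptP_all hG σ hT z hZ hZr _ k, ptP_all hG σ hT z hZ hZr _ k⟩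
  -- a maximal torus of `Z`
  obtain ⟨Tm, _, tm, htm, ht'⟩ := Groth.Agent.S2995.result (A := O) finite_maximal Z Z hZr (𝟙 Z)
    (isParabolic_id hZr)
  rw [Category.comp_id] at ht'
  have htK : Red.IsMaximalTorus ((Over.pullback (gen O)).map tm) :=
    MaxTorBc636.isMaximalTorus_bc (gen O) hZr ht'
  have htKm : IsMonHom ((Over.pullback (gen O)).map tm) := htK.1
  have htKo : Mono ((Over.pullback (gen O)).map tm) := htK.2.1
  obtain ⟨f₀, hf₀⟩ := ((TorClosed636.isCentralizerOf_self hZKr htK).2.2 T₀ j₀).2 (by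
    intro X' y h
    exact (hcen _ _ X' h y).symm)
  have hf₀m : IsMonHom f₀ := OppS172.isMonHom_of_comp f₀ ((Over.pullback (gen O)).map tm)
    (by rw [hf₀]; infer_instance)
  have hf₀mono : Mono f₀ := by
    have : Mono (f₀ ≫ (Over.pullback (gen O)).map tm) := by rw [hf₀]; infer_instance
    exact mono_of_mono f₀ ((Over.pullback (gen O)).map tm)
  obtain ⟨E, hE, h1, h2⟩ := exists_compare (gen O) f₀ hm
  obtain ⟨J, hJ, hJ'⟩ := GenExt.exists_hom_ext ht'.2.2.1 (E.hom ≫ f₀)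
  obtain ⟨q, hq⟩ := exists_factor hG σ hT (J ≫ tm ≫ z)
    (BorSpan613.isTorus_of_isSplitTorusWith (K19.SplitTor.isSplit_DS _ _))
    ⟨m, K19.SplitTor.isSplit_DS _ _⟩ (by
      intro X a b
      have h3 := (hx _ (J ≫ tm ≫ z)).2 ((hz.iff_ptZ _ _).1 ⟨J ≫ tm, Category.assoc _ _ _⟩) X b a
      exact h3.symm)
  have h4 : (E.inv ≫ (Over.pullback (gen O)).map q) ≫ (Over.pullback (gen O)).map σ = σ₀ := by
    rw [Category.assoc, ← Functor.map_comp, hq, Functor.map_comp, Functor.map_comp, hJ',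
      Category.assoc, Iso.inv_hom_id_assoc, ← Category.assoc, hf₀, hj₀]
  have hσmono : Mono ((Over.pullback (gen O)).map σ) := inferInstance
  refine ⟨E.inv ≫ (Over.pullback (gen O)).map q, ?_, ?_⟩
  · rw [← cancel_mono ((Over.pullback (gen O)).map σ), Category.assoc, h4, hg, Category.id_comp]
  · rw [← cancel_mono σ₀, Category.assoc, hg, h4, Category.id_comp]

end

section

variable {O : Type u} [CommRing O] [IsDomain O]
  {G T₁ T₂ : Over (Spec (CommRingCat.of O))} [GrpObj G] [GrpObj T₁] [GrpObj T₂]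

/-- Subtori with the same generic fibre are equal. -/
theorem exists_iso_of_genFibre (hG : Red.IsReductive G) (σ₁ : T₁ ⟶ G) (σ₂ : T₂ ⟶ G)
    [IsMonHom σ₁] [Mono σ₁] [IsMonHom σ₂] [Mono σ₂] (h₁ : Red.IsTorus T₁) (h₂ : Red.IsTorus T₂)
    (e : Red.bc (gen O) T₁ ≅ Red.bc (gen O) T₂)
    (he : e.hom ≫ (Over.pullback (gen O)).map σ₂ = (Over.pullback (gen O)).map σ₁) :
    ∃ f : T₁ ≅ T₂, f.hom ≫ σ₂ = σ₁ := by
  have hGa : IsAffineHom G.hom := hG.1
  have : Smooth T₁.hom := TorusAlgClosed.smooth_of_isTorus h₁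
  have : Smooth T₂.hom := TorusAlgClosed.smooth_of_isTorus h₂
  have : IsClosedImmersion σ₁.left := TorClosed636.isClosedImmersion_of_isTorus σ₁ h₁
  have : IsClosedImmersion σ₂.left := TorClosed636.isClosedImmersion_of_isTorus σ₂ h₂
  obtain ⟨f, hf⟩ := exists_fac σ₁ σ₂ e.hom he
  obtain ⟨g, hg⟩ := exists_fac σ₂ σ₁ e.inv (by rw [← he, Iso.inv_hom_id_assoc])
  refine ⟨⟨f, g, ?_, ?_⟩, hf⟩
  · rw [← cancel_mono σ₁, Category.assoc, hg, hf, Category.id_comp]
  · rw [← cancel_mono σ₂, Category.assoc, hf, hg, Category.id_comp]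

end

end Groth.Agent.K687.GenSpl
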